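import Cfsg.Agent.CosetEnum.SuzA.Chain14

set_option autoImplicit false
set_option maxRecDepth 100000
set_option Elab.async false

/-! Order bound from the enumeration on 9072 cosets. -/

namespace CfsgLib.CosetEnum.SuzA

theorem full : B219 = 2 ^ (enum.n * enum.L.length) - 1 := by decide +kernel

theorem valid_0 : allR (validEntry 9072 6 tb id) 12 0 = true := by decide +kernel

theorem valid_1 : allR (validEntry 9072 6 tb id) 12 4096 = true := by decide +kernel

theorem valid_2 : allR (validEntry 9072 6 tb id) 12 8192 = true := by decide +kernel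

theorem valid_3 : allR (validEntry 9072 6 tb id) 12 12288 = true := by decide +kernel

theorem valid : allR (validEntry 9072 6 tb id) 14 0 = true :=
  (allR_join (d := 13) (lo := 0) (hi := 8192) (allR_join (d := 12) (lo := 0) (hi := 4096) valid_0 (by decide +kernel) valid_1) (by decide +kernel) (allR_join (d := 12) (lo := 8192) (hi := 12288) valid_2 (by decide +kernel) valid_3))

theorem bound (m : ℕ) (h : Finite (CfsgLib.CosetEnum.Suz.setup.letSub enum.L') ∧
    Nat.card (CfsgLib.CosetEnum.Suz.setup.letSub enum.L') ≤ m) :
    Finite (CfsgLib.CosetEnum.Suz.setup.letSub enum.L) ∧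
      Nat.card (CfsgLib.CosetEnum.Suz.setup.letSub enum.L) ≤ 9072 * m :=
  enum.bound (d := 14) (B := B219) (by decide +kernel) (by decide +kernel) (by decide +kernel) good219 valid full h.1 h.2

end CfsgLib.CosetEnum.SuzA
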